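import Mathlib
import Cfsg.Agent.Lib.Helper56.TC
import Cfsg.Agent.Lib.Helper56.Suz1782.D
set_option autoImplicit false
set_option maxRecDepth 1000000

namespace Cfsg.Agent.Lib.Helper56.Suz1782

open Cfsg.Agent.Lib.Helper56.TC Cfsg.Agent.Lib.Helper56.TC.Tabs

theorem cN_0 : allRange (fun x => forceN T.chkName x) 0 359 = true := by decide +kernel
theorem cN_359 : allRange (fun x => forceN T.chkName x) 359 362 = true := by decide +kernel
theorem cN_721 : allRange (fun x => forceN T.chkName x) 721 360 = true := by decide +kernel
theorem cN_1081 : allRange (fun x => forceN T.chkName x) 1081 362 = true := by decide +kernel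
theorem cN_1443 : allRange (fun x => forceN T.chkName x) 1443 349 = true := by decide +kernel
theorem cN_1792 : allRange (fun x => forceN T.chkName x) 1792 389 = true := by decide +kernel
theorem cN_2181 : allRange (fun x => forceN T.chkName x) 2181 407 = true := by decide +kernel
theorem cN_2588 : allRange (fun x => forceN T.chkName x) 2588 378 = true := by decide +kernel
theorem cN_2966 : allRange (fun x => forceN T.chkName x) 2966 385 = true := by decide +kernel
theorem cN_3351 : allRange (fun x => forceN T.chkName x) 3351 390 = true := by decide +kernel
theorem cN_3741 : allRange (fun x => forceN T.chkName x) 3741 393 = true := by decide +kernel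
theorem cN_4134 : allRange (fun x => forceN T.chkName x) 4134 389 = true := by decide +kernel

end Cfsg.Agent.Lib.Helper56.Suz1782
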