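import Mathlib
import Cfsg.Agent.Lib.Helper56.TC
import Cfsg.Agent.Lib.Helper56.Suz1782.D
set_option autoImplicit false
set_option maxRecDepth 1000000

namespace Cfsg.Agent.Lib.Helper56.Suz1782

open Cfsg.Agent.Lib.Helper56.TC Cfsg.Agent.Lib.Helper56.TC.Tabs

theorem cN_4523 : allRange (fun x => forceN T.chkName x) 4523 395 = true := by decide +kernel
theorem cN_4918 : allRange (fun x => forceN T.chkName x) 4918 402 = true := by decide +kernel
theorem cN_5320 : allRange (fun x => forceN T.chkName x) 5320 395 = true := by decide +kernel
theorem cN_5715 : allRange (fun x => forceN T.chkName x) 5715 411 = true := by decide +kernel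
theorem cN_6126 : allRange (fun x => forceN T.chkName x) 6126 415 = true := by decide +kernel
theorem cN_6541 : allRange (fun x => forceN T.chkName x) 6541 418 = true := by decide +kernel
theorem cN_6959 : allRange (fun x => forceN T.chkName x) 6959 426 = true := by decide +kernel
theorem cN_7385 : allRange (fun x => forceN T.chkName x) 7385 29 = true := by decide +kernel
theorem cV_0 : allRange (fun x => forceN T.chkV x) 0 150 = true := by decide +kernel
theorem cV_150 : allRange (fun x => forceN T.chkV x) 150 150 = true := by decide +kernel
theorem cV_300 : allRange (fun x => forceN T.chkV x) 300 150 = true := by decide +kernel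
theorem cV_450 : allRange (fun x => forceN T.chkV x) 450 150 = true := by decide +kernel

end Cfsg.Agent.Lib.Helper56.Suz1782
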