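import Mathlib
import Cfsg.Agent.Lib.Helper56.TC
import Cfsg.Agent.Lib.Helper56.Suz1782.D
set_option autoImplicit false
set_option maxRecDepth 1000000

namespace Cfsg.Agent.Lib.Helper56.Suz1782

open Cfsg.Agent.Lib.Helper56.TC Cfsg.Agent.Lib.Helper56.TC.Tabs

theorem cV_600 : allRange (fun x => forceN T.chkV x) 600 150 = true := by decide +kernel
theorem cV_750 : allRange (fun x => forceN T.chkV x) 750 150 = true := by decide +kernel
theorem cV_900 : allRange (fun x => forceN T.chkV x) 900 150 = true := by decide +kernel
theorem cV_1050 : allRange (fun x => forceN T.chkV x) 1050 150 = true := by decide +kernel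
theorem cV_1200 : allRange (fun x => forceN T.chkV x) 1200 150 = true := by decide +kernel
theorem cV_1350 : allRange (fun x => forceN T.chkV x) 1350 150 = true := by decide +kernel
theorem cV_1500 : allRange (fun x => forceN T.chkV x) 1500 150 = true := by decide +kernel
theorem cV_1650 : allRange (fun x => forceN T.chkV x) 1650 132 = true := by decide +kernel

end Cfsg.Agent.Lib.Helper56.Suz1782
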