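import Mathlib
import Cfsg.Agent.Lib.Helper56.TC
import Cfsg.Agent.Lib.Helper56.Suz1782.C0
import Cfsg.Agent.Lib.Helper56.Suz1782.C1
import Cfsg.Agent.Lib.Helper56.Suz1782.C2
set_option autoImplicit false
set_option maxRecDepth 1000000

namespace Cfsg.Agent.Lib.Helper56.Suz1782

open Cfsg.Agent.Lib.Helper56.TC Cfsg.Agent.Lib.Helper56.TC.Tabs

theorem uN_359 : Upto T.chkName 359 := upto_add (upto_zero T.chkName) rfl cN_0
theorem uN_721 : Upto T.chkName 721 := upto_add uN_359 rfl cN_359
theorem uN_1081 : Upto T.chkName 1081 := upto_add uN_721 rfl cN_721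
theorem uN_1443 : Upto T.chkName 1443 := upto_add uN_1081 rfl cN_1081
theorem uN_1792 : Upto T.chkName 1792 := upto_add uN_1443 rfl cN_1443
theorem uN_2181 : Upto T.chkName 2181 := upto_add uN_1792 rfl cN_1792
theorem uN_2588 : Upto T.chkName 2588 := upto_add uN_2181 rfl cN_2181
theorem uN_2966 : Upto T.chkName 2966 := upto_add uN_2588 rfl cN_2588
theorem uN_3351 : Upto T.chkName 3351 := upto_add uN_2966 rfl cN_2966
theorem uN_3741 : Upto T.chkName 3741 := upto_add uN_3351 rfl cN_3351
theorem uN_4134 : Upto T.chkName 4134 := upto_add uN_3741 rfl cN_3741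
theorem uN_4523 : Upto T.chkName 4523 := upto_add uN_4134 rfl cN_4134
theorem uN_4918 : Upto T.chkName 4918 := upto_add uN_4523 rfl cN_4523
theorem uN_5320 : Upto T.chkName 5320 := upto_add uN_4918 rfl cN_4918
theorem uN_5715 : Upto T.chkName 5715 := upto_add uN_5320 rfl cN_5320
theorem uN_6126 : Upto T.chkName 6126 := upto_add uN_5715 rfl cN_5715
theorem uN_6541 : Upto T.chkName 6541 := upto_add uN_6126 rfl cN_6126
theorem uN_6959 : Upto T.chkName 6959 := upto_add uN_6541 rfl cN_6541
theorem uN_7385 : Upto T.chkName 7385 := upto_add uN_6959 rfl cN_6959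
theorem uN_7414 : Upto T.chkName 7414 := upto_add uN_7385 rfl cN_7385
theorem uV_150 : Upto T.chkV 150 := upto_add (upto_zero T.chkV) rfl cV_0
theorem uV_300 : Upto T.chkV 300 := upto_add uV_150 rfl cV_150
theorem uV_450 : Upto T.chkV 450 := upto_add uV_300 rfl cV_300
theorem uV_600 : Upto T.chkV 600 := upto_add uV_450 rfl cV_450
theorem uV_750 : Upto T.chkV 750 := upto_add uV_600 rfl cV_600
theorem uV_900 : Upto T.chkV 900 := upto_add uV_750 rfl cV_750
theorem uV_1050 : Upto T.chkV 1050 := upto_add uV_900 rfl cV_900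
theorem uV_1200 : Upto T.chkV 1200 := upto_add uV_1050 rfl cV_1050
theorem uV_1350 : Upto T.chkV 1350 := upto_add uV_1200 rfl cV_1200
theorem uV_1500 : Upto T.chkV 1500 := upto_add uV_1350 rfl cV_1350
theorem uV_1650 : Upto T.chkV 1650 := upto_add uV_1500 rfl cV_1500
theorem uV_1782 : Upto T.chkV 1782 := upto_add uV_1650 rfl cV_1650

/-- The certificate is valid. -/
theorem cert : T.Cert where
  h0 := by decide +kernel
  hrx := by decide +kernel
  hs0 := by decide +kernel
  hname := uN_7414
  hV := uV_1782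

theorem orep_0 : T.orep 0 < T.N ∧ T.ol (T.orep 0) = 0 := by decide +kernel
theorem cnt_0 : countLt (fun v => Nat.beq (T.ol v) 0) T.N = 1 := by decide +kernel
theorem orep_1 : T.orep 1 < T.N ∧ T.ol (T.orep 1) = 1 := by decide +kernel
theorem cnt_1 : countLt (fun v => Nat.beq (T.ol v) 1) T.N = 1365 := by decide +kernel
theorem orep_2 : T.orep 2 < T.N ∧ T.ol (T.orep 2) = 2 := by decide +kernel
theorem cnt_2 : countLt (fun v => Nat.beq (T.ol v) 2) T.N = 416 := by decide +kernel

end Cfsg.Agent.Lib.Helper56.Suz1782
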